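import Groth.Agent.Lib.DualDCpl27.Tors
import Groth.Agent.Lib.RGamma27.GM
import Groth.Agent.Lib.DCpl.RHom
import Groth.Agent.Lib.KFlat.RHomCxComp
import Groth.Prelude.Def_DTen3

/-!
# Internal Hom out of a torsion object, and completion of an internal Hom
-/

set_option autoImplicit false
set_option linter.unusedSectionVars false
set_option linter.style.haveILetI false
set_option backward.isDefEq.respectTransparency false

universe u

open CategoryTheory CategoryTheory.Limits MonoidalCategory Opposite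

attribute [local instance] HasDerivedCategory.standard

noncomputable section

namespace Groth.Agent.DualDCpl27

open KFlat RGamma27 DCpl

variable {A : Type u} [CommRing A] [DTen.HasLTen A] [DTen.HasRHom A]

theorem nonempty_gd_iso (P : DRing.Cx A) [P.IsKProjective] {T : Dual.D A} (e : DerivedCategory.Q.obj P ≅ T) :
    Nonempty (HomD.Gd P ≅ DTen.RHomR A T) :=
  ⟨Adjunction.rightAdjointUniq ((HomD.adjD P).ofNatIsoLeft ((DTen.LTen A).flip.mapIso e)) (DTen.rhomAdj A T)⟩

theorem dcd_rhomR {f : A} (T : Dual.D A) {C : Dual.D A} (hC : DCD C f) : DCD ((DTen.RHomR A T).obj C) f := by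
  obtain ⟨P, hP, ⟨e⟩⟩ := HomD.exists_rep T
  haveI := hP
  obtain ⟨r⟩ := nonempty_gd_iso P e
  exact (dcd_gd f P hC).of_iso (r.app C)

theorem homEquiv_RHomMap {T L L' C : Dual.D A} (u : L' ⟶ L) (g : (DTen.tensorRightD A L).obj T ⟶ C) :
    (DTen.rhomAdj A L).homEquiv T C g ≫ DTen.RHomMap u C =
      (DTen.rhomAdj A L').homEquiv T C (((DTen.LTen A).flip.map u).app T ≫ g) := by
  rw [Adjunction.homEquiv_unit, Adjunction.homEquiv_unit, Functor.map_comp, Category.assoc]
  have h := unit_conjugateEquiv (DTen.rhomAdj A L) (DTen.rhomAdj A L') ((DTen.LTen A).flip.map u) T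
  have hn := ((DTen.RHom A).map u.op).naturality g
  refine ((congrArg ((DTen.rhomAdj A L).unit.app T ≫ ·) hn).trans ?_)
  exact ((reassoc_of% h) ((DTen.RHomR A L').map g) :)

theorem precomp_bijective_of {T L L' C : Dual.D A} (u : L' ⟶ L)
    (h : Function.Bijective fun t : L ⟶ (DTen.RHomR A T).obj C => u ≫ t) :
    Function.Bijective fun g : (DTen.tensorRightD A L).obj T ⟶ C => ((DTen.LTen A).flip.map u).app T ≫ g := by
  let E := fun X : Dual.D A => (DTen.rhomAdj A T).homEquiv X C
  have h₁ : Function.Bijective fun g : (DTen.tensorRightD A T).obj L ⟶ C =>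
      (DTen.tensorRightD A T).map u ≫ g := by
    have : (fun g : (DTen.tensorRightD A T).obj L ⟶ C => (DTen.tensorRightD A T).map u ≫ g) =
        (E L').symm ∘ (fun t => u ≫ t) ∘ E L := funext fun g => by
      refine (Equiv.eq_symm_apply _).2 ?_
      exact (DTen.rhomAdj A T).homEquiv_naturality_left u g
    rw [this]
    exact (E L').symm.bijective.comp (h.comp (E L).bijective)
  haveI := DT.isIso_symm_app T L
  haveI := DT.isIso_symm_app T L'
  have hn : (DTen.tensorRightD A T).map u ≫ (DTen.symm A).app (T, L) =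
      (DTen.symm A).app (T, L') ≫ ((DTen.LTen A).flip.map u).app T :=
    (DTen.symm A).naturality (Prod.mkHom (𝟙 T) u)
  have : (fun g : (DTen.tensorRightD A L).obj T ⟶ C => ((DTen.LTen A).flip.map u).app T ≫ g) =
      (fun g => inv ((DTen.symm A).app (T, L')) ≫ g) ∘
        (fun g : (DTen.tensorRightD A T).obj L ⟶ C => (DTen.tensorRightD A T).map u ≫ g) ∘
          fun g => (DTen.symm A).app (T, L) ≫ g := funext fun g => by
    refine ((cancel_epi ((DTen.symm A).app (T, L'))).1 ?_)
    refine Eq.trans ?_ (IsIso.hom_inv_id_assoc _ _).symm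
    exact ((Category.assoc _ _ _).symm.trans (congrArg (· ≫ g) hn.symm)).trans (Category.assoc _ _ _)
  rw [this]
  have b' : Function.Bijective fun g : _ ⟶ C => inv ((DTen.symm A).app (T, L')) ≫ g :=
    ⟨fun x y hxy => (cancel_epi _).1 hxy, fun x => ⟨(DTen.symm A).app (T, L') ≫ x, IsIso.inv_hom_id_assoc _ _⟩⟩
  exact b'.comp (h₁.comp ⟨fun x y hxy => (cancel_epi _).1 hxy,
    fun x => ⟨inv ((DTen.symm A).app (T, L)) ≫ x, IsIso.hom_inv_id_assoc _ _⟩⟩)

/-- Complete objects do not see the difference between `L` and `L'`. -/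
theorem isIso_RHomMap {L L' : Dual.D A} (u : L' ⟶ L) (C : Dual.D A)
    (h : ∀ T, Function.Bijective fun t : L ⟶ (DTen.RHomR A T).obj C => u ≫ t) :
    IsIso (DTen.RHomMap u C) := by
  rw [isIso_iff_yoneda_map_bijective]
  intro T
  have : (fun t : T ⟶ (DTen.RHomR A L).obj C => t ≫ DTen.RHomMap u C) =
      (DTen.rhomAdj A L').homEquiv T C ∘ (fun g => ((DTen.LTen A).flip.map u).app T ≫ g) ∘
        ((DTen.rhomAdj A L).homEquiv T C).symm := funext fun t => by
    simp only [Function.comp_apply]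
    rw [← homEquiv_RHomMap, Equiv.apply_symm_apply]
  rw [this]
  exact (Equiv.bijective _).comp ((precomp_bijective_of u (h T)).comp (Equiv.bijective _))

/-- `RHom(L, -)` for torsion `L` inverts maps invisible to torsion objects. -/
theorem isIso_rhomR_map [IsNoetherianRing A] (I : Ideal A) {L : Dual.D A}
    (hL : ∀ i : ℤ, LocCoh.IsPowerTorsion I (Dual.HD A L i)) {X Y : Dual.D A} (a : X ⟶ Y)
    (ha : ∀ T : Dual.D A, (∀ i : ℤ, LocCoh.IsPowerTorsion I (Dual.HD A T i)) →
      Function.Bijective fun t : T ⟶ X => t ≫ a) :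
    IsIso ((DTen.RHomR A L).map a) := by
  rw [isIso_iff_yoneda_map_bijective]
  intro T
  have : (fun t : T ⟶ (DTen.RHomR A L).obj X => t ≫ (DTen.RHomR A L).map a) =
      (DTen.rhomAdj A L).homEquiv T Y ∘ (fun g => g ≫ a) ∘ ((DTen.rhomAdj A L).homEquiv T X).symm :=
    funext fun t => by
      simp only [Function.comp_apply]
      rw [Adjunction.homEquiv_naturality_right, Equiv.apply_symm_apply]
  rw [this]
  exact (Equiv.bijective _).comp ((ha _ (fun i => isPowerTorsion_tensor I T L hL i)).comp (Equiv.bijective _))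

/-- Greenlees–May duality for an internal Hom. -/
theorem nonempty_completion_rhom [IsNoetherianRing A] (I : Ideal A) [DRing.HasRgammaI I]
    [DRing.HasDerivedCompletion I] (L L' ω E : Dual.D A) (hL' : Nonempty (L' ≅ (DRing.RgammaI I).obj L))
    (hE : Nonempty (E ≅ (DRing.RgammaI I).obj ω)) :
    Nonempty (((DRing.derivedCompletion I).obj ((DTen.RHomR A L).obj ω)).obj ≅ (DTen.RHomR A L').obj E) := by
  obtain ⟨eL⟩ := hL'
  obtain ⟨eE⟩ := hE
  obtain ⟨s, hs⟩ := exists_list I (IsNoetherian.noetherian I)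
  have hsI : ∀ f ∈ s, f ∈ I := fun f hf => hs ▸ Ideal.subset_span hf
  obtain ⟨P, hP, ⟨eP⟩⟩ := HomD.exists_rep L
  haveI := hP
  obtain ⟨C, η, hη, hη', -⟩ := exists_cpl_gd P s ω
  obtain ⟨r⟩ := nonempty_gd_iso P eP
  have h1 : IsCpl {g | g ∈ s} ((r.app ω).symm.hom ≫ (HomD.Gd P).map η ≫ (r.app C).hom) :=
    hη'.of_isIso (r.app ω).symm (r.app C)
  obtain ⟨e1, -⟩ := nonempty_iso_of_isCpl I _ hs h1
  have hC : ∀ f ∈ I, DCD C f :=
    (isDerivedComplete_iff I C).1 ((isDerivedComplete_iff_span I _ hs C).2 hη.1)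
  let u : L' ⟶ L := eL.hom ≫ (DRing.RgammaIε I).app L
  have hu : ∀ T, Function.Bijective fun t : L ⟶ (DTen.RHomR A T).obj C => u ≫ t := fun T => by
    have := (Iso.homCongr eL.symm (Iso.refl ((DTen.RHomR A T).obj C))).bijective.comp
      (ε_precomp_bijective I L _ fun f hf => dcd_rhomR T (hC f hf))
    refine (congrArg Function.Bijective (funext fun t => ?_)).mp this
    simp [u, Iso.homCongr]
  haveI := isIso_RHomMap u C hu
  have hT' : ∀ i : ℤ, LocCoh.IsPowerTorsion I (Dual.HD A L' i) := fun i =>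
    isPowerTorsion_HD_iso I eL.symm i (isPowerTorsion_RgammaI I L i)
  obtain ⟨C', η', hη₂, -, hb⟩ := exists_cpl_torsion I s hsI ω
  obtain ⟨c⟩ := hη.nonempty_iso hη₂
  haveI := isIso_rhomR_map I hT' η' hb
  haveI := isIso_rhomR_map I hT' ((DRing.RgammaIε I).app ω) fun T hT => comp_ε_bijective I T ω hT
  exact ⟨e1 ≪≫ asIso (DTen.RHomMap u C) ≪≫ (DTen.RHomR A L').mapIso c ≪≫
    (asIso ((DTen.RHomR A L').map η')).symm ≪≫
      (asIso ((DTen.RHomR A L').map ((DRing.RgammaIε I).app ω))).symm ≪≫ (DTen.RHomR A L').mapIso eE.symm⟩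

end Groth.Agent.DualDCpl27
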