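import Groth.Agent.Lib.Dlz27.Gamma
import Groth.Agent.Lib.RGamma27.Value
import Mathlib.Algebra.Homology.DerivedCategory.Fractions

/-!
# `RΓ_m ω` is the injective hull of the residue field
-/

set_option autoImplicit false
set_option linter.style.haveILetI false
universe u

open CategoryTheory CategoryTheory.Limits

attribute [local instance] HasDerivedCategory.standard

noncomputable section

namespace Groth.Agent.DualDCpl27

open Dlz27 RGamma27

variable {A : Type u} [CommRing A] [IsLocalRing A] [IsNoetherianRing A]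

theorem nonempty_gam_iso {ω : Dual.D A} (hω : Dual.IsDualizing A ω) (hn : Dual.IsNormalized A ω) (M : Model ω)
    (E : Type u) [AddCommGroup E] [Module A E] (eE : H0 M ≃ₗ[A] E) :
    Nonempty (DerivedCategory.Q.obj (gam (IsLocalRing.maximalIdeal A) M.W) ≅ Dual.inD A E) := by
  let m := IsLocalRing.maximalIdeal A
  obtain ⟨s, hs⟩ := exists_section M hω hn
  let Y := ModuleCat.of A E
  let toT : G M 0 →ₗ[A] DRing.torsionSub m (M.W.X 0) :=
    LinearMap.codRestrict _ (G M 0).subtype fun x => (mem_G M).1 x.2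
  let lift : E →ₗ[A] DRing.torsionSub m (M.W.X 0) := toT ∘ₗ (cy M 0).subtype ∘ₗ s ∘ₗ eE.symm.toLinearMap
  have hlift : ∀ v, M.W.d 0 (0 + 1) (lift v).1 = 0 := fun v => congrArg Subtype.val (s (eE.symm v)).2
  let σ : (HomologicalComplex.single (ModuleCat.{u} A) (ComplexShape.up ℤ) 0).obj Y ⟶ gam m M.W :=
    HomologicalComplex.mkHomFromSingle (ModuleCat.ofHom (Y := (gam m M.W).X 0) lift) (fun j hj => by
      obtain rfl : j = 0 + 1 := (show (0 : ℤ) + 1 = j from hj).symm
      exact ModuleCat.hom_ext (LinearMap.ext fun v => Subtype.ext (hlift v)))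
  have hσ : ∀ w, (σ.f 0) w = lift ((HomologicalComplex.singleObjXSelf (ComplexShape.up ℤ) 0 Y).hom w) := fun w => by
    simp only [σ, HomologicalComplex.mkHomFromSingle_f]
    rfl
  have hfin : ∀ j, j ≠ (0 : ℤ) → Subsingleton
      (((HomologicalComplex.single (ModuleCat.{u} A) (ComplexShape.up ℤ) 0).obj Y).X j) := fun j hj =>
    ModuleCat.subsingleton_of_isZero (HomologicalComplex.isZero_single_obj_X _ _ _ _ hj)
  have hbij : ∀ j, Function.Bijective (HomologicalComplex.homologyMap σ j) := by
    intro j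
    have hp : (ComplexShape.up ℤ).prev j = j - 1 := by simp
    have hq : (ComplexShape.up ℤ).next j = j + 1 := by simp
    refine DMod.homologyMap_bijective_of σ hp hq (fun x hx => ?_) (fun w y _ hy => ?_)
    · let x' : DRing.torsionSub m (M.W.X j) := x
      have hx' : M.W.d j (j + 1) x'.1 = 0 := congrArg Subtype.val hx
      let c : cy M j := ⟨⟨x'.1, (mem_G M).2 x'.2⟩, Subtype.ext hx'⟩
      by_cases hj : j = 0
      · subst hj
        let v : E := eE (Submodule.Quotient.mk c)
        have hv : (Submodule.Quotient.mk (s (eE.symm v)) : H0 M) = Submodule.Quotient.mk c := by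
          rw [hs, eE.symm_apply_apply]
        obtain ⟨t, ht⟩ := (Submodule.Quotient.eq _).1 hv.symm
        let y : DRing.torsionSub m (M.W.X (0 - 1)) := ⟨t.1, (mem_G M).1 t.2⟩
        let w := (HomologicalComplex.singleObjXSelf (ComplexShape.up ℤ) 0 Y).inv v
        have hw : (HomologicalComplex.singleObjXSelf (ComplexShape.up ℤ) 0 Y).hom w = v :=
          CategoryTheory.Iso.inv_hom_id_apply (HomologicalComplex.singleObjXSelf (ComplexShape.up ℤ) 0 Y) v
        refine ⟨w, y, ?_, ?_⟩
        · haveI := hfin (0 + 1) (by omega)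
          exact Subsingleton.elim _ _
        · rw [hσ, hw]
          refine Subtype.ext ?_
          have ht' : M.W.d (0 - 1) 0 t.1 = x'.1 - (s (eE.symm v)).1.1 := congrArg Subtype.val ht
          show (s (eE.symm v)).1.1 + M.W.d (0 - 1) 0 t.1 = x'.1
          rw [ht']
          exact add_sub_cancel _ _
      · obtain ⟨t, ht⟩ := cy_le_bd M hω hn hj c.2
        let y : DRing.torsionSub m (M.W.X (j - 1)) := ⟨t.1, (mem_G M).1 t.2⟩
        refine ⟨0, y, map_zero _, ?_⟩
        rw [map_zero, zero_add]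
        refine Subtype.ext ?_
        show M.W.d (j - 1) j t.1 = x'.1
        exact congrArg Subtype.val ht
    · by_cases hj : j = 0
      · subst hj
        refine ⟨0, ?_⟩
        rw [map_zero]
        let v : E := (HomologicalComplex.singleObjXSelf (ComplexShape.up ℤ) 0 Y).hom w
        let y' : DRing.torsionSub m (M.W.X (0 - 1)) := y
        have h1 : M.W.d (0 - 1) 0 y'.1 = (lift v).1 := congrArg Subtype.val (hy.trans (hσ w))
        have h2 : (Submodule.Quotient.mk (s (eE.symm v)) : H0 M) = 0 :=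
          (Submodule.Quotient.mk_eq_zero _).2 ⟨⟨y'.1, (mem_G M).2 y'.2⟩, Subtype.ext h1⟩
        rw [hs] at h2
        have hv : v = 0 := eE.symm.injective (h2.trans (map_zero eE.symm).symm)
        rw [← CategoryTheory.Iso.hom_inv_id_apply (HomologicalComplex.singleObjXSelf (ComplexShape.up ℤ) 0 Y) w]
        exact ((congrArg (HomologicalComplex.singleObjXSelf (ComplexShape.up ℤ) 0 Y).inv hv).trans (map_zero _)).symm
      · haveI := hfin j hj
        exact ⟨0, Subsingleton.elim _ _⟩
  haveI : QuasiIso σ := ⟨fun j => by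
    rw [quasiIsoAt_iff_isIso_homologyMap]
    exact (ConcreteCategory.isIso_iff_bijective _).2 (hbij j)⟩
  exact ⟨(asIso (DerivedCategory.Q.map σ)).symm ≪≫
    ((DerivedCategory.singleFunctorIsoCompQ (ModuleCat.{u} A) 0).app Y).symm⟩

/-- `RΓ_m ω ≅ E`. -/
theorem nonempty_RgammaI_iso {ω : Dual.D A} (hω : Dual.IsDualizing A ω) (hn : Dual.IsNormalized A ω)
    (E : Type u) [AddCommGroup E] [Module A E] {f : IsLocalRing.ResidueField A →ₗ[A] E}
    (hf : InjHull.IsInjectiveHull f) [DRing.HasRgammaI (IsLocalRing.maximalIdeal A)] :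
    Nonempty (Dual.inD A E ≅ (DRing.RgammaI (IsLocalRing.maximalIdeal A)).obj ω) := by
  obtain ⟨W, a, b, ha, hb, hi, hk, ⟨e⟩⟩ := exists_model ω hω
  let M : Model ω := ⟨W, a, b, ha, hb, hi, hk, e⟩
  haveI := M.kinj
  obtain ⟨eE⟩ := equiv_hull M hω hn hf
  obtain ⟨g⟩ := nonempty_gam_iso hω hn M E eE
  exact ⟨g.symm ≪≫ unitIso _ M.W ≪≫ (DRing.RgammaI (IsLocalRing.maximalIdeal A)).mapIso M.e⟩

end Groth.Agent.DualDCpl27
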