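import Groth.Agent.Lib.RGamma27.Value
import Groth.Agent.Lib.KFlat.HomD
import Groth.Agent.Lib.KFlat.DTen

/-!
# A derived tensor product with a torsion object is torsion
-/

set_option autoImplicit false
set_option linter.unusedSectionVars false
set_option backward.isDefEq.respectTransparency false

universe u

open CategoryTheory CategoryTheory.Limits MonoidalCategory

attribute [local instance] HasDerivedCategory.standard

noncomputable section

namespace Groth.Agent.DualDCpl27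

open KFlat KFlat.HomAdj RGamma27

variable {A : Type u} [CommRing A] (I : Ideal A)

theorem mem_torsion_tensor (P W : DRing.Cx A) (hW : ∀ q, ∀ y : W.X q, y ∈ DRing.torsionSub I (W.X q))
    (n : ℤ) (x : (P ⊗ W : DRing.Cx A).X n) : x ∈ DRing.torsionSub I ((P ⊗ W : DRing.Cx A).X n) := by
  have h : ModuleCat.ofHom (DRing.torsionSub I ((P ⊗ W : DRing.Cx A).X n)).mkQ = 0 := by
    refine tn_ext fun p q hpq a b => ?_
    refine (Submodule.Quotient.mk_eq_zero _).2 ?_
    obtain ⟨k, hk⟩ := hW q b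
    refine ⟨k, fun r hr => ?_⟩
    rw [← tn_smul_right p q n hpq, hk r hr, ← zero_smul A (0 : W.X q), tn_smul_right, zero_smul]
  exact (Submodule.Quotient.mk_eq_zero _).1 (congrArg (fun f => f.hom x) h)

theorem isPowerTorsion_homology (T : DRing.Cx A) (hT : ∀ n, ∀ x : T.X n, x ∈ DRing.torsionSub I (T.X n))
    (j : ℤ) : LocCoh.IsPowerTorsion I (T.homology j) := by
  intro m
  obtain ⟨z, rfl⟩ := DMod.homologyπ_surjective T j m
  obtain ⟨n, hn⟩ := hT j (T.iCycles j z)
  refine ⟨n, fun a ha => ?_⟩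
  have h0 : a • z = 0 := DMod.iCycles_injective T j (by rw [map_smul, map_zero]; exact hn a ha)
  rw [← map_smul, h0, map_zero]

theorem exists_torsion_rep [IsNoetherianRing A] (L : Dual.D A)
    (hL : ∀ i : ℤ, LocCoh.IsPowerTorsion I (Dual.HD A L i)) :
    ∃ W : DRing.Cx A, (∀ q, ∀ y : W.X q, y ∈ DRing.torsionSub I (W.X q)) ∧
      Nonempty (L ≅ DerivedCategory.Q.obj W) := by
  obtain ⟨J, hJ, hinj, ⟨e⟩⟩ := exists_res L
  haveI := quasiIso_incl (IsNoetherian.noetherian I) J (fun i => flasque_of_injective (hinj i)) fun j => by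
    obtain ⟨l⟩ := HD_iso (K := J) j
    exact isPowerTorsion_of_equiv I l (isPowerTorsion_HD_iso I e j (hL j))
  refine ⟨gam I J, fun q y => ?_, ⟨e ≪≫ (asIso (DerivedCategory.Q.map (incl I J))).symm⟩⟩
  obtain ⟨n, hn⟩ := (y : DRing.torsionSub I (J.X q)).2
  exact ⟨n, fun a ha => Subtype.ext (hn a ha)⟩

variable [DTen.HasLTen A]

theorem isPowerTorsion_tensor [IsNoetherianRing A] (T L : Dual.D A)
    (hL : ∀ i : ℤ, LocCoh.IsPowerTorsion I (Dual.HD A L i)) (i : ℤ) :
    LocCoh.IsPowerTorsion I (Dual.HD A ((DTen.tensorRightD A L).obj T) i) := by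
  obtain ⟨W, hW, ⟨eW⟩⟩ := exists_torsion_rep I L hL
  obtain ⟨P, hP, ⟨eP⟩⟩ := HomD.exists_rep T
  haveI := hP
  haveI := DT.isIso_ε_left (L := W) (HomD.isKFlat P)
  refine isPowerTorsion_HD_iso I (((asIso ((DTen.ε A).app (P, W))).symm ≪≫
    ((DTen.LTen₂ A).mapIso (Iso.prod eP eW.symm) :))) i ?_
  obtain ⟨l⟩ := HD_iso (K := (P ⊗ W : DRing.Cx A)) i
  exact isPowerTorsion_of_equiv I l.symm
    (isPowerTorsion_homology I _ (fun n => mem_torsion_tensor I P W hW n) i)

end Groth.Agent.DualDCpl27
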